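import Cfsg.Agent.H646.BR.Act
import Cfsg.Agent.ClassicalGeometry.PSUAutMain
import Mathlib
import Cfsg.Agent.H876.UWitt
import Cfsg.Agent.H567.GapGU
import Cfsg.Agent.S0277
import Cfsg.Agent.H957.UFrame
import Cfsg.Agent.Prune
set_option linter.all false
prune_inst 0x7fbfedfcfbbee3ffffff7e7ffef9fffd9bb3ffffefdff943ffeee9ff8fdf13928bcdfb8d8df232ff0ef6621410b87853ff7eeeffe06fdc7ffffdfff41ffbee5fe5f7350811948c240f342fff83f0778a7f3fffffffffffffffffffffffffffbeffbfffffffff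
open scoped Cfsg.Agent.FastGrp

-- part: H646/BR/UDefs
section
/-!
# The unitary polar space (helper646, S4891)

* `hpol hF n : Pol F (Fin n → F)` : the polar structure of `hermForm n F q`;
* `guL`, `suL` : `GU`, `SU → (V ≃ₗ[F] V)`; `pres_gu`, `pres_su`;
* `uX hF n k = (hpol hF n).X k`, with the instances `MulAction (GU n F q)`, `MulAction (SU n F q)`, and
  `psuAct hF hn k : MulAction (PSU n F q) (uX hF n k)`.
-/

set_option autoImplicit false

open Module

namespace Cfsg.Agent.H646.BR.U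

open Cfsg Matrix
open Cfsg.Agent.H2.Pol
open Cfsg.Agent.LieClassical.HermBasic Cfsg.Agent.LieClassical.HermSiegel Cfsg.Agent.LieClassical.SUBasic
open Cfsg.Agent.ClassicalGeometry.PSUAutBasic Cfsg.Agent.ClassicalGeometry.PSUAutCount

variable {F : Type*} [Field F] [Fintype F] {n q : ℕ}

/-- the polar structure of the hermitian form -/
def hpol (hF : Fintype.card F = q ^ 2) (n : ℕ) : Pol F (Fin n → F) where
  L y :=
    { toFun := fun x => hermForm n F q x y
      map_add' := fun x x' => herm_add_left x x' y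
      map_smul' := fun c x => herm_smul_left c x y }
  refl x y h := herm_eq_zero_swap hF h
  sing x := hermForm n F q x x = 0
  sing_zero := herm_zero_left 0
  sing_add x y hx hy h := by
    have h1 : hermForm n F q x y = 0 := h
    have h2 : hermForm n F q y x = 0 := herm_eq_zero_swap hF h
    rw [herm_add_left, herm_add_right hF, herm_add_right hF, hx, hy, h1, h2, add_zero, add_zero]
  sing_smul a x hx := by
    rw [herm_smul_left, herm_smul_right, hx, mul_zero, mul_zero]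

theorem hpol_L (hF : Fintype.card F = q ^ 2) (x y : Fin n → F) : (hpol hF n).L y x = hermForm n F q x y := rfl

theorem hpol_sing (hF : Fintype.card F = q ^ 2) (x : Fin n → F) : (hpol hF n).sing x ↔ hermForm n F q x x = 0 := Iff.rfl

theorem TI_iff (hF : Fintype.card F = q ^ 2) {U : Submodule F (Fin n → F)} :
    (hpol hF n).TI U ↔ ∀ x ∈ U, ∀ y ∈ U, hermForm n F q x y = 0 :=
  ⟨fun h x hx y hy => h.2 x hx y hy, fun h => ⟨fun x hx => h x hx x hx, fun x hx y hy => h x hx y hy⟩⟩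

theorem mem_perp_iff (hF : Fintype.card F = q ^ 2) {U : Submodule F (Fin n → F)} {y : Fin n → F} :
    y ∈ (hpol hF n).perp U ↔ ∀ x ∈ U, hermForm n F q y x = 0 := Iff.rfl

/-- `GU → GL(V)` -/
def guL (n : ℕ) (F : Type*) [Field F] [Fintype F] (q : ℕ) : GU n F q →* ((Fin n → F) ≃ₗ[F] (Fin n → F)) where
  toFun A :=
    { toFun := fun v => gm A *ᵥ v
      map_add' := fun v w => Matrix.mulVec_add _ _ _
      map_smul' := fun c v => Matrix.mulVec_smul _ _ _
      invFun := fun v => gm A⁻¹ *ᵥ v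
      left_inv := fun v => gm_inv_mulVec A v
      right_inv := fun v => gm_mulVec_inv A v }
  map_one' := by
    apply LinearEquiv.ext
    intro v
    change gm 1 *ᵥ v = v
    rw [gm_one, one_mulVec]
  map_mul' A B := by
    apply LinearEquiv.ext
    intro v
    change gm (A * B) *ᵥ v = gm A *ᵥ (gm B *ᵥ v)
    rw [gm_mul, mulVec_mulVec]

/-- `SU → GL(V)` -/
def suL (n : ℕ) (F : Type*) [Field F] [Fintype F] (q : ℕ) : SU n F q →* ((Fin n → F) ≃ₗ[F] (Fin n → F)) where
  toFun g :=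
    { toFun := fun v => act g v
      map_add' := fun v w => act_add g v w
      map_smul' := fun c v => act_smul g c v
      invFun := fun v => act g⁻¹ v
      left_inv := fun v => act_inv_act g v
      right_inv := fun v => act_act_inv g v }
  map_one' := by
    apply LinearEquiv.ext
    intro v
    exact act_one v
  map_mul' g h := by
    apply LinearEquiv.ext
    intro v
    exact act_mul g h v

theorem suL_apply (g : SU n F q) (v : Fin n → F) : suL n F q g v = act g v := rfl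

theorem pres_gu (hF : Fintype.card F = q ^ 2) : Pres (hpol hF n) (guL n F q) := fun A =>
  ⟨fun x y => herm_gm A x y, fun x hx => (herm_gm A x x).trans hx⟩

theorem pres_su (hF : Fintype.card F = q ^ 2) : Pres (hpol hF n) (suL n F q) := fun g =>
  ⟨fun x y => herm_act g x y, fun x hx => (herm_act g x x).trans hx⟩

/-- totally isotropic `k`-subspaces -/
abbrev uX (hF : Fintype.card F = q ^ 2) (n k : ℕ) : Type _ := (hpol hF n).X k

instance guAct (hF : Fintype.card F = q ^ 2) (k : ℕ) : MulAction (GU n F q) (uX hF n k) := actX (guL n F q) (pres_gu hF) k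

instance suAct (hF : Fintype.card F = q ^ 2) (k : ℕ) : MulAction (SU n F q) (uX hF n k) := actX (suL n F q) (pres_su hF) k

theorem gu_smul (hF : Fintype.card F = q ^ 2) {k : ℕ} (A : GU n F q) (U : uX hF n k) : (A • U).1 = mv (guL n F q) A U.1 := rfl

theorem su_smul (hF : Fintype.card F = q ^ 2) {k : ℕ} (g : SU n F q) (U : uX hF n k) : (g • U).1 = mv (suL n F q) g U.1 := rfl

theorem center_smul (hF : Fintype.card F = q ^ 2) (hn : 3 ≤ n) {k : ℕ} {z : SU n F q}
    (hz : z ∈ Subgroup.center (SU n F q)) (U : uX hF n k) : z • U = U := by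
  obtain ⟨c, hc0, -, hc⟩ := exists_scalar_of_mem_center hF hn (Subgroup.inv_mem _ hz)
  apply Subtype.ext
  rw [su_smul]
  ext x
  rw [mem_mv, suL_apply, hc]
  exact ⟨fun h => by
    have h1 := U.1.smul_mem c⁻¹ h
    rwa [smul_smul, inv_mul_cancel₀ hc0, one_smul] at h1, fun h => U.1.smul_mem c h⟩

/-- the action of `SU` as a permutation representation -/
def suPerm (hF : Fintype.card F = q ^ 2) (n k : ℕ) : SU n F q →* Equiv.Perm (uX hF n k) := MulAction.toPermHom _ _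

/-- the action of `PSU` as a permutation representation -/
def psuPerm (hF : Fintype.card F = q ^ 2) (hn : 3 ≤ n) (k : ℕ) : PSU n F q →* Equiv.Perm (uX hF n k) :=
  QuotientGroup.lift (Subgroup.center (SU n F q)) (suPerm hF n k) fun z hz => by
    apply Equiv.ext
    intro U
    exact center_smul hF hn hz U

/-- the action of `PSU` -/
@[reducible] def psuAct (hF : Fintype.card F = q ^ 2) (hn : 3 ≤ n) (k : ℕ) : MulAction (PSU n F q) (uX hF n k) :=
  MulAction.compHom _ (psuPerm hF hn k)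

theorem psu_smul (hF : Fintype.card F = q ^ 2) (hn : 3 ≤ n) {k : ℕ} (g : SU n F q) (U : uX hF n k) :
    (psuAct hF hn k).toSMul.smul (pr n F q g) U = g • U := rfl

end Cfsg.Agent.H646.BR.U
end

-- part: H666/BR/Num
section
/-!
# Numbers of totally isotropic subspaces modulo `p` : arithmetic (helper666, S4891)

`z = -q`, `N * ∏_{j < k} (z^(2(j+1)) - 1) = (-1)^k * ∏_{i < 2k} (z^(m+i+1) - 1)`.
-/

set_option autoImplicit false

open Finset

namespace Cfsg.Agent.H666.BR.Num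

theorem sign_prod (m : ℕ) (f : ℕ → ℤ) : ∀ k : ℕ,
    ∏ i ∈ range (2 * k), ((-1 : ℤ) ^ (m + i + 1) * f i) = (-1) ^ k * ∏ i ∈ range (2 * k), f i := by
  intro k
  rw [prod_mul_distrib]
  congr 1
  induction k with
  | zero => simp only [_root_.MulZeroClass.mul_zero, _root_.Finset.range_zero, _root_.Int.reduceNeg, _root_.Finset.prod_empty, _root_.pow_zero]
  | succ k ih =>
    rw [show 2 * (k + 1) = 2 * k + 1 + 1 by ring, prod_range_succ, prod_range_succ, ih, pow_succ (-1 : ℤ) k, mul_assoc,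
      ← pow_add]
    congr 1
    rw [show m + 2 * k + 1 + (m + (2 * k + 1) + 1) = 2 * (m + 2 * k + 1) + 1 by ring, pow_succ, pow_mul]
    norm_num

theorem prod_two (f : ℕ → ℤ) (k : ℕ) :
    ∏ i ∈ range (2 * k), f i = (∏ j ∈ range k, f (2 * j)) * ∏ j ∈ range k, f (2 * j + 1) := by
  induction k with
  | zero => simp
  | succ k ih =>
    rw [show 2 * (k + 1) = 2 * k + 1 + 1 by ring, prod_range_succ, prod_range_succ, ih, prod_range_succ, prod_range_succ]
    ring

/-- the equation in terms of `z = -q` -/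
theorem eq_neg {N q : ℤ} {k m : ℕ}
    (h : N * ∏ j ∈ range k, (q ^ (2 * (j + 1)) - 1) = ∏ i ∈ range (2 * k), (q ^ (m + i + 1) - (-1) ^ (m + i + 1))) :
    N * ∏ j ∈ range k, ((-q) ^ (2 * (j + 1)) - 1) = (-1) ^ k * ∏ i ∈ range (2 * k), ((-q) ^ (m + i + 1) - 1) := by
  rw [← sign_prod]
  have h1 : ∀ j : ℕ, (-q) ^ (2 * (j + 1)) = q ^ (2 * (j + 1)) := fun j => Even.neg_pow (even_two_mul _) q
  simp only [h1]
  rw [h]
  refine prod_congr rfl fun i _ => ?_
  rw [mul_sub, mul_one, neg_pow q, ← mul_assoc, ← mul_pow]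
  norm_num only [_root_.one_pow, _root_.one_mul]

section
variable {p : ℕ} [hp : Fact p.Prime]

theorem prod_prim {e : ℕ} {ζ : ZMod p} (h : orderOf ζ = e + 1) :
    ∏ i ∈ range e, (ζ ^ (i + 1) - 1) = (-1) ^ e * (e + 1) := by
  have h1 : IsPrimitiveRoot ζ (e + 1) := by rw [← h]; exact IsPrimitiveRoot.orderOf ζ
  rw [← IsPrimitiveRoot.prod_pow_sub_one_eq_order h1, ← mul_assoc, ← mul_pow]
  norm_num

/-- a window of `e` consecutive exponents -/
theorem window {e m i0 : ℕ} {ζ : ZMod p} (hζ : ζ ^ e = 1) (he : 0 < e) (hi0 : i0 < e) (hd : e ∣ m + i0 + 1) :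
    ∏ i ∈ (range e).erase i0, (ζ ^ (m + i + 1) - 1) = ∏ i ∈ range (e - 1), (ζ ^ (i + 1) - 1) := by
  have himg : ((range e).erase i0).image (fun i => (m + i) % e) = range (e - 1) := by
    refine eq_of_subset_of_card_le ?_ ?_
    · intro j hj
      obtain ⟨i, hi, rfl⟩ := mem_image.1 hj
      rw [mem_erase, mem_range] at hi
      have h1 : (m + i) % e < e := Nat.mod_lt _ he
      rw [mem_range]
      by_contra h2
      have h3 : (m + i) % e = e - 1 := by omega
      have h4 : e ∣ m + i + 1 := by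
        rw [← Nat.mod_add_div (m + i) e, h3, show e - 1 + e * ((m + i) / e) + 1 = e + e * ((m + i) / e) by omega]
        exact dvd_add (dvd_refl e) (dvd_mul_right e _)
      have h5 : (e : ℤ) ∣ (i : ℤ) - i0 := by
        have h6 : (e : ℤ) ∣ ((m + i + 1 : ℕ) : ℤ) - ((m + i0 + 1 : ℕ) : ℤ) :=
          dvd_sub (Int.natCast_dvd_natCast.2 h4) (Int.natCast_dvd_natCast.2 hd)
        have h7 : ((m + i + 1 : ℕ) : ℤ) - ((m + i0 + 1 : ℕ) : ℤ) = (i : ℤ) - i0 := by push_cast; ring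
        rwa [h7] at h6
      have h8 : (i : ℤ) - i0 = 0 := Int.eq_zero_of_abs_lt_dvd h5 (by rw [abs_lt]; constructor <;> omega)
      exact hi.1 (by omega)
    · rw [card_image_of_injOn, card_erase_of_mem (mem_range.2 hi0), card_range, card_range]
      intro i hi j hj hij
      have hi' := mem_range.1 (mem_of_mem_erase hi)
      have hj' := mem_range.1 (mem_of_mem_erase hj)
      have h1 : m + i ≡ m + j [MOD e] := hij
      have h2 : i ≡ j [MOD e] := Nat.ModEq.add_left_cancel' m h1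
      rwa [Nat.ModEq, Nat.mod_eq_of_lt hi', Nat.mod_eq_of_lt hj'] at h2
  rw [← himg, prod_image]
  · refine prod_congr rfl fun i _ => ?_
    congr 1
    conv_lhs => rw [← Nat.mod_add_div (m + i) e]
    rw [show (m + i) % e + e * ((m + i) / e) + 1 = ((m + i) % e + 1) + e * ((m + i) / e) by ring, pow_add, pow_mul, hζ,
      one_pow, mul_one]
  · intro i hi j hj hij
    have hi' := mem_range.1 (mem_of_mem_erase hi)
    have hj' := mem_range.1 (mem_of_mem_erase hj)
    have h1 : m + i ≡ m + j [MOD e] := hij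
    have h2 : i ≡ j [MOD e] := Nat.ModEq.add_left_cancel' m h1
    rwa [Nat.ModEq, Nat.mod_eq_of_lt hi', Nat.mod_eq_of_lt hj'] at h2

/-- divisibility of `z ^ i - 1` -/
theorem dvd_iff {z : ℤ} {i : ℕ} : (p : ℤ) ∣ z ^ i - 1 ↔ orderOf ((z : ZMod p)) ∣ i := by
  rw [← ZMod.intCast_zmod_eq_zero_iff_dvd, orderOf_dvd_iff_pow_eq_one]
  push_cast
  rw [sub_eq_zero]

/-- maximal isotropic subspaces -/
theorem dvd_odd {N z : ℤ} {n k m : ℕ} (hn : n = m + 2 * k) (hm : m ≤ 1) (hn3 : 3 ≤ n) (hz : 2 ≤ |z|)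
    (h : N * ∏ j ∈ range k, (z ^ (2 * (j + 1)) - 1) = (-1) ^ k * ∏ i ∈ range (2 * k), (z ^ (m + i + 1) - 1))
    (ho : Odd (orderOf ((z : ZMod p)))) (hle : orderOf ((z : ZMod p)) ≤ n) : (p : ℤ) ∣ N := by
  have hz1 : ∀ j : ℕ, z ^ (2 * (j + 1)) - 1 ≠ 0 := by
    intro j hj
    have h1 : z ^ (2 * (j + 1)) = 1 := sub_eq_zero.1 hj
    have h2 : |z| ^ (2 * (j + 1)) = 1 := by rw [← abs_pow, h1, abs_one]
    have h3 : |z| ≤ |z| ^ (2 * (j + 1)) := le_self_pow₀ (by omega) (by omega)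
    omega
  have hne : ∏ j ∈ range k, (z ^ (2 * (j + 1)) - 1) ≠ 0 := prod_ne_zero_iff.2 fun j _ => hz1 j
  obtain ⟨t, ht⟩ := ho
  rw [prod_two] at h
  obtain rfl | rfl : m = 0 ∨ m = 1 := by omega
  · have h1 : N = (-1) ^ k * ∏ j ∈ range k, (z ^ (2 * j + 1) - 1) := by
      apply mul_right_cancel₀ hne
      rw [h, mul_assoc]
      congr 2
      · exact prod_congr rfl fun j _ => by rw [zero_add]
      · exact prod_congr rfl fun j _ => by rw [zero_add, show 2 * j + 1 + 1 = 2 * (j + 1) by ring]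
    rw [h1]
    refine Dvd.dvd.mul_left ?_ _
    refine (dvd_iff.2 ?_ : (p : ℤ) ∣ z ^ (2 * t + 1) - 1).trans (dvd_prod_of_mem _ (mem_range.2 (by omega)))
    rw [ht]
  · have h1 : N = (-1) ^ k * ∏ j ∈ range k, (z ^ (2 * j + 3) - 1) := by
      apply mul_right_cancel₀ hne
      rw [h, mul_comm (∏ j ∈ range k, (z ^ (1 + 2 * j + 1) - 1)), mul_assoc]
      congr 2
      · exact prod_congr rfl fun j _ => by rw [show 1 + (2 * j + 1) + 1 = 2 * j + 3 by ring]
      · exact prod_congr rfl fun j _ => by rw [show 1 + 2 * j + 1 = 2 * (j + 1) by ring]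
    rw [h1]
    refine Dvd.dvd.mul_left ?_ _
    rcases t with _ | t
    · refine (dvd_iff.2 ?_ : (p : ℤ) ∣ z ^ (2 * 0 + 3) - 1).trans
        (dvd_prod_of_mem (fun j => z ^ (2 * j + 3) - 1) (mem_range.2 (by omega)))
      rw [ht]
      exact one_dvd _
    · refine (dvd_iff.2 ?_ : (p : ℤ) ∣ z ^ (2 * t + 3) - 1).trans
        (dvd_prod_of_mem (fun j => z ^ (2 * j + 3) - 1) (mem_range.2 (by omega)))
      rw [ht, show 2 * (t + 1) + 1 = 2 * t + 3 by ring]

/-- small `k` -/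
theorem dvd_even {N z : ℤ} {n k m d a : ℕ} (hn : n = m + 2 * k)
    (h : N * ∏ j ∈ range k, (z ^ (2 * (j + 1)) - 1) = (-1) ^ k * ∏ i ∈ range (2 * k), (z ^ (m + i + 1) - 1))
    (he : orderOf ((z : ZMod p)) = 2 * d) (hk : k < d) (h1 : m + 1 ≤ a * (2 * d)) (h2 : a * (2 * d) ≤ n) :
    (p : ℤ) ∣ N := by
  have hpr : Prime (p : ℤ) := Nat.prime_iff_prime_int.1 hp.out
  have h3 : (p : ℤ) ∣ N * ∏ j ∈ range k, (z ^ (2 * (j + 1)) - 1) := by
    rw [h]
    refine Dvd.dvd.mul_left ?_ _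
    have h4 : (p : ℤ) ∣ z ^ (m + (a * (2 * d) - m - 1) + 1) - 1 := by
      rw [dvd_iff, he, show m + (a * (2 * d) - m - 1) + 1 = a * (2 * d) by omega]
      exact dvd_mul_left _ _
    exact h4.trans (dvd_prod_of_mem (fun i => z ^ (m + i + 1) - 1) (mem_range.2 (by omega)))
  rcases hpr.dvd_or_dvd h3 with h4 | h4
  · exact h4
  · obtain ⟨j, hj, h5⟩ := (hpr.dvd_finsetProd_iff _).1 h4
    rw [dvd_iff, he] at h5
    have h6 : d ∣ j + 1 := Nat.dvd_of_mul_dvd_mul_left two_pos h5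
    have h7 := Nat.le_of_dvd (Nat.succ_pos j) h6
    have h8 := mem_range.1 hj
    omega

theorem geom (w : ℤ) (a : ℕ) : w ^ a - 1 = (w - 1) * ∑ t ∈ range a, w ^ t := (mul_geom_sum w a).symm

/-- the geometric sum modulo `p` -/
theorem geom_mod {z : ℤ} {e a : ℕ} (he : (z : ZMod p) ^ e = 1) : ((∑ t ∈ range a, (z ^ e) ^ t : ℤ) : ZMod p) = a := by
  push_cast
  simp [he]

/-- the denominators -/
theorem den {z : ℤ} {d : ℕ} (s : ℕ) (he : orderOf ((z : ZMod p)) = 2 * (d + 1)) :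
    ((∏ j ∈ range d, (z ^ (2 * (s * (d + 1) + j + 1)) - 1) : ℤ) : ZMod p) = (-1) ^ d * (d + 1) := by
  have h1 : orderOf ((z : ZMod p) ^ 2) = d + 1 := by
    rw [orderOf_pow' _ two_ne_zero, he, Nat.gcd_eq_right (dvd_mul_right 2 _), Nat.mul_div_cancel_left _ two_pos]
  rw [← prod_prim h1]
  push_cast
  refine prod_congr rfl fun j _ => ?_
  have h2 : (z : ZMod p) ^ (2 * (d + 1)) = 1 := by rw [← he]; exact pow_orderOf_eq_one _
  rw [show 2 * (s * (d + 1) + j + 1) = 2 * (d + 1) * s + 2 * (j + 1) by ring, pow_add, pow_mul, h2, one_pow, one_mul,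
    pow_mul]

theorem ne_zero_of_order {z : ℤ} {d : ℕ} (he : orderOf ((z : ZMod p)) = 2 * (d + 1)) : ((d + 1 : ℕ) : ZMod p) ≠ 0 := by
  intro h
  rw [ZMod.natCast_eq_zero_iff] at h
  have hz0 : (z : ZMod p) ≠ 0 := by
    intro h0
    rw [h0, orderOf_eq_zero_iff.2] at he
    · omega
    · intro h1
      obtain ⟨n, hn, h2⟩ := isOfFinOrder_iff_pow_eq_one.1 h1
      rw [zero_pow hn.ne'] at h2
      exact zero_ne_one h2
  have h1 : 2 * (d + 1) ∣ p - 1 := by
    rw [← he]
    exact orderOf_dvd_of_pow_eq_one (ZMod.pow_card_sub_one_eq_one hz0)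
  have h2 := Nat.le_of_dvd (Nat.sub_pos_of_lt hp.out.one_lt) h1
  have h3 := Nat.le_of_dvd (Nat.succ_pos d) h
  omega

/-- `k = d` -/
theorem card_one {N z : ℤ} {n0 d a m : ℕ} (hz : 2 ≤ |z|) (he : orderOf ((z : ZMod p)) = 2 * (d + 1))
    (hn0 : 2 * d ≤ n0) (hn1 : n0 ≤ 2 * d + 1) (hm : m = n0 + a * (2 * (d + 1)))
    (h : N * ∏ j ∈ range (d + 1), (z ^ (2 * (j + 1)) - 1) =
      (-1) ^ (d + 1) * ∏ i ∈ range (2 * (d + 1)), (z ^ (m + i + 1) - 1)) : (N : ZMod p) = 2 * (a + 1) := by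
  have hζ : (z : ZMod p) ^ (2 * (d + 1)) = 1 := by rw [← he]; exact pow_orderOf_eq_one _
  set! i0 := 2 * (d + 1) - 1 - n0 with hi0
  have hi0' : i0 < 2 * (d + 1) := by omega
  have hmi : m + i0 + 1 = 2 * (d + 1) * (a + 1) := by rw [hm]; ring_nf; omega
  have hw := window (p := p) (m := m) hζ (by omega) hi0' (by rw [hmi]; exact dvd_mul_right _ _)
  rw [← mul_prod_erase (range (2 * (d + 1))) _ (mem_range.2 hi0'), hmi, pow_mul z (2 * (d + 1)) (a + 1), geom,
    prod_range_succ] at h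
  have hne : z ^ (2 * (d + 1)) - 1 ≠ 0 := by
    intro hj
    have h1 : z ^ (2 * (d + 1)) = 1 := sub_eq_zero.1 hj
    have h2 : |z| ^ (2 * (d + 1)) = 1 := by rw [← abs_pow, h1, abs_one]
    have h3 : |z| ≤ |z| ^ (2 * (d + 1)) := le_self_pow₀ (by omega) (by omega)
    omega
  have h1 : N * ∏ j ∈ range d, (z ^ (2 * (j + 1)) - 1) = (-1) ^ (d + 1) *
      ((∑ t ∈ range (a + 1), (z ^ (2 * (d + 1))) ^ t) *
        ∏ i ∈ (range (2 * (d + 1))).erase i0, (z ^ (m + i + 1) - 1)) := by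
    apply mul_right_cancel₀ hne
    linear_combination h
  have h2 := congrArg (Int.cast : ℤ → ZMod p) h1
  have h3 := den (p := p) 0 he
  simp only [zero_mul, zero_add] at h3
  rw [Int.cast_mul, h3, Int.cast_mul, Int.cast_mul, geom_mod hζ, Int.cast_prod] at h2
  push_cast at h2
  rw [hw, show 2 * (d + 1) - 1 = 2 * d + 1 by omega, prod_prim (by rw [he]; ring)] at h2
  have h4 := ne_zero_of_order he
  have h5 : ((-1 : ZMod p)) ^ d * ((d + 1 : ℕ) : ZMod p) ≠ 0 := mul_ne_zero (pow_ne_zero _ (by simp)) h4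
  apply mul_right_cancel₀ h5
  push_cast at h2 ⊢
  rw [h2, pow_succ (-1 : ZMod p) d, pow_succ (-1 : ZMod p) (2 * d), pow_mul]
  ring

/-- `k = 2d` -/
theorem card_two {N z : ℤ} {n0 d a m : ℕ} (hz : 2 ≤ |z|) (he : orderOf ((z : ZMod p)) = 2 * (d + 1))
    (hn0 : 2 * d ≤ n0) (hn1 : n0 ≤ 2 * d + 1) (hm : m = n0 + a * (2 * (d + 1)))
    (h : N * ∏ j ∈ range (2 * (d + 1)), (z ^ (2 * (j + 1)) - 1) =
      (-1) ^ (2 * (d + 1)) * ∏ i ∈ range (2 * (2 * (d + 1))), (z ^ (m + i + 1) - 1)) :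
    (N : ZMod p) = 2 * (a + 2) * (a + 1) := by
  have hζ : (z : ZMod p) ^ (2 * (d + 1)) = 1 := by rw [← he]; exact pow_orderOf_eq_one _
  set E := 2 * (d + 1) with hE
  set! i0 := E - 1 - n0 with hi0
  have hi0' : i0 < E := by omega
  have hmi : m + i0 + 1 = E * (a + 1) := by rw [hm, mul_add, mul_one, mul_comm E a]; omega
  have hmi2 : m + E + i0 + 1 = E * (a + 2) := by rw [hm, mul_add, mul_comm E a, mul_comm E 2]; (clear * - hn1 hmi; omega)
  have hw := window (p := p) (m := m) hζ (by omega) hi0' (by rw [hmi]; exact dvd_mul_right _ _)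
  have hw2 := window (p := p) (m := m + E) hζ (by omega) hi0' (by rw [hmi2]; exact dvd_mul_right _ _)
  rw [(even_two_mul _).neg_one_pow, one_mul, two_mul E, prod_range_add] at h
  have hsh : ∏ x ∈ range E, (z ^ (m + (E + x) + 1) - 1) = ∏ x ∈ range E, (z ^ (m + E + x + 1) - 1) :=
    prod_congr rfl fun x _ => by rw [← add_assoc]
  have hA : ∏ i ∈ range E, (z ^ (m + i + 1) - 1) =
      (z ^ (m + i0 + 1) - 1) * ∏ i ∈ (range E).erase i0, (z ^ (m + i + 1) - 1) :=
    (mul_prod_erase (range E) _ (mem_range.2 hi0')).symm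
  have hB : ∏ i ∈ range E, (z ^ (m + E + i + 1) - 1) =
      (z ^ (m + E + i0 + 1) - 1) * ∏ i ∈ (range E).erase i0, (z ^ (m + E + i + 1) - 1) :=
    (mul_prod_erase (range E) _ (mem_range.2 hi0')).symm
  rw [hsh, hA, hB, hmi, hmi2, pow_mul z E (a + 1), pow_mul z E (a + 2), geom, geom (z ^ E) (a + 2)] at h
  have hden : ∏ j ∈ range E, (z ^ (2 * (j + 1)) - 1) =
      (∏ j ∈ range d, (z ^ (2 * (0 * (d + 1) + j + 1)) - 1)) * (z ^ E - 1) *
        ((∏ j ∈ range d, (z ^ (2 * (1 * (d + 1) + j + 1)) - 1)) * ((z ^ E - 1) * (z ^ E + 1))) := by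
    rw [show E = (d + 1) + (d + 1) by omega, prod_range_add, prod_range_succ, prod_range_succ]
    (with_reducible congr 1)
    · (with_reducible congr 1)
      · exact prod_congr rfl fun j _ => by rw [zero_mul, zero_add]
      · rw [show 2 * (d + 1) = d + 1 + (d + 1) by ring]
    · (with_reducible congr 1)
      · exact prod_congr rfl fun j _ => by rw [one_mul, add_assoc (d + 1) j 1]
      · rw [show 2 * (d + 1 + d + 1) = (d + 1 + (d + 1)) * 2 by ring, pow_mul]
        ring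
  have hne : z ^ E - 1 ≠ 0 := by
    intro hj
    have h1 : z ^ E = 1 := sub_eq_zero.1 hj
    have h2 : |z| ^ E = 1 := by rw [← abs_pow, h1, abs_one]
    have h3 : |z| ≤ |z| ^ E := le_self_pow₀ (by omega) (by omega)
    omega
  rw [hden] at h
  have h1 : N * ((∏ j ∈ range d, (z ^ (2 * (0 * (d + 1) + j + 1)) - 1)) *
      ((∏ j ∈ range d, (z ^ (2 * (1 * (d + 1) + j + 1)) - 1)) * (z ^ E + 1))) =
      (∑ t ∈ range (a + 1), (z ^ E) ^ t) * (∏ i ∈ (range E).erase i0, (z ^ (m + i + 1) - 1)) *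
        ((∑ t ∈ range (a + 2), (z ^ E) ^ t) * ∏ i ∈ (range E).erase i0, (z ^ (m + E + i + 1) - 1)) := by
    apply mul_right_cancel₀ (mul_ne_zero hne hne)
    linear_combination h
  have h2 := congrArg (Int.cast : ℤ → ZMod p) h1
  rw [Int.cast_mul, Int.cast_mul, Int.cast_mul, den 0 he, den 1 he, Int.cast_mul, Int.cast_mul, Int.cast_mul,
    geom_mod hζ, geom_mod hζ, Int.cast_prod, Int.cast_prod] at h2
  push_cast at h2
  rw [hw, hw2, show E - 1 = 2 * d + 1 by omega, prod_prim (by rw [he, hE]; ring), hζ] at h2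
  have h4 := ne_zero_of_order he
  have h5 : ((-1 : ZMod p)) ^ d * ((d + 1 : ℕ) : ZMod p) ≠ 0 := mul_ne_zero (pow_ne_zero _ (by simp)) h4
  have h6 : (2 : ZMod p) ≠ 0 := by
    intro h7
    have h8 : p ∣ 2 := (ZMod.natCast_eq_zero_iff 2 p).1 (by exact_mod_cast h7)
    have h9 : p = 2 := (Nat.prime_dvd_prime_iff_eq hp.out Nat.prime_two).1 h8
    subst h9
    have hz0 : (z : ZMod 2) = 0 ∨ (z : ZMod 2) = 1 := by
      rcases Int.even_or_odd z with h10 | h10
      · exact Or.inl ((ZMod.intCast_zmod_eq_zero_iff_dvd z 2).2 (by exact_mod_cast h10.two_dvd))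
      · obtain ⟨w, rfl⟩ := h10
        refine Or.inr ?_
        push_cast
        rw [show (2 : ZMod 2) = 0 from rfl, zero_mul, zero_add]
    rcases hz0 with h10 | h10
    · rw [h10, zero_pow (by omega)] at hζ
      exact zero_ne_one hζ
    · rw [h10, orderOf_one] at he
      omega
  apply mul_right_cancel₀ (mul_ne_zero (mul_ne_zero h5 h5) h6)
  push_cast at h2 ⊢
  have h7 : ((-1 : ZMod p)) ^ (2 * d + 1) = -1 := by rw [pow_succ, pow_mul]; norm_num
  rw [h7] at h2
  have h8 : ((-1 : ZMod p) ^ d) * ((-1 : ZMod p) ^ d) = 1 := by rw [← mul_pow]; norm_num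
  linear_combination h2 + 2 * (2 * (a + 2) * (a + 1) : ZMod p) * (d + 1) ^ 2 * (-h8)

end

end Cfsg.Agent.H666.BR.Num
end

-- part: H666/BR/UCard
section
/-!
# The number of totally isotropic `k`-subspaces (helper666, S4891)

* `gu_trans`, `su_trans` : `GU`, `SU` are transitive on `uX hF n k`;
* `card_uX_mul` : `#(uX hF n k) * ∏_{j ≤ k} (q^(2j) - 1) = ∏_{m < i ≤ n} (q^i - (-1)^i)`, `n = k + (m + k)`;
* `dvd_card_odd`, `dvd_card_even`, `card_d`, `card_2d` : the numbers modulo `p`, `e` = order of `-q` modulo `p`.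
-/

set_option autoImplicit false

open Module

namespace Cfsg.Agent.H666.BR

open Cfsg Matrix
open Cfsg.Agent.H2.Pol Cfsg.Agent.H646.BR Cfsg.Agent.H646.BR.U
open Cfsg.Agent.LieClassical.HermBasic Cfsg.Agent.LieClassical.HermSiegel Cfsg.Agent.LieClassical.SUBasic
open Cfsg.Agent.ClassicalGeometry.PSUAutBasic Cfsg.Agent.ClassicalGeometry.PSUAutCount
open Cfsg.Agent.ClassicalGeometry.HermParabolic

variable {F : Type*} [Field F] [Fintype F] {n q : ℕ}

/-- `GU` is transitive on the totally isotropic `k`-subspaces -/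
theorem gu_trans (hF : Fintype.card F = q ^ 2) {k : ℕ} (U W : uX hF n k) : ∃ A : GU n F q, A • U = W := by
  have hfin : finrank F U.1 = finrank F W.1 := by rw [U.2.2, W.2.2]
  let e : U.1 ≃ₗ[F] W.1 := LinearEquiv.ofFinrankEq _ _ hfin
  have hU := (TI_iff hF).1 U.2.1
  have hW := (TI_iff hF).1 W.2.1
  obtain ⟨g, hg, hgf⟩ := H876.exists_gu_extension hF U.1 (W.1.subtype.comp e.toLinearMap)
    (W.1.injective_subtype.comp e.injective)
    (fun x x' => by
      rw [hU x.1 x.2 x'.1 x'.2]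
      exact hW _ (e x).2 _ (e x').2)
  refine ⟨⟨g, hg⟩, ?_⟩
  apply Subtype.ext
  rw [gu_smul]
  refine Submodule.eq_of_le_of_finrank_eq ?_ ?_
  · rintro _ ⟨x, hx, rfl⟩
    have h1 := hgf ⟨x, hx⟩
    change gm (⟨g, hg⟩ : GU n F q) *ᵥ x ∈ W.1
    change (g : Matrix (Fin n) (Fin n) F) *ᵥ x ∈ W.1
    rw [h1]
    exact (e ⟨x, hx⟩).2
  · rw [finrank_mv, U.2.2, W.2.2]

theorem two_mul_le (hF : Fintype.card F = q ^ 2) {k : ℕ} (U : uX hF n k) : 2 * k ≤ n := by
  have h := H957.Uni.two_mul_finrank_le hF ((TI_iff hF).1 U.2.1)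
  rwa [U.2.2] at h

/-- `SU` is transitive on the totally isotropic `k`-subspaces -/
theorem su_trans (hF : Fintype.card F = q ^ 2) (hn : 1 ≤ n) {k : ℕ} (U W : uX hF n k) : ∃ g : SU n F q, g • U = W := by
  obtain ⟨A, hA⟩ := gu_trans hF U W
  have hk := two_mul_le hF W
  have hnk : n = k + ((n - 2 * k) + k) := by omega
  have hW := (TI_iff hF).1 W.2.1
  obtain ⟨e, he⟩ := exists_stabEquiv hF hnk W.2.2 hW
  -- the determinant of `A`
  have hdet := det_GU_pow hF A
  have hmem : (Matrix.GeneralLinearGroup.det (A : GL (Fin n) F))⁻¹ ∈ (chi F q k (n - 2 * k)).range := by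
    rw [range_chi hF (by omega), MonoidHom.mem_ker, powMonoidHom_apply, inv_pow, hdet, inv_one]
  obtain ⟨p, hp⟩ := hmem
  obtain ⟨M, hM⟩ : ∃ M : StabSet hF W.1, M = e (p, (0, ⟨0, by simp⟩)) := ⟨_, rfl⟩
  have hMdet : M.1.det = ((Matrix.GeneralLinearGroup.det (A : GL (Fin n) F))⁻¹ : Fˣ) := by
    rw [hM, he, ← hp, chi_apply]
    rfl
  have hdetA : (gm A).det = ((Matrix.GeneralLinearGroup.det (A : GL (Fin n) F) : Fˣ) : F) := rfl
  let g : SU n F q := ⟨⟨M.1 * gm A, by
    rw [Matrix.det_mul, hMdet, hdetA, ← Units.val_mul, inv_mul_cancel, Units.val_one]⟩, by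
    intro u v
    change hermForm n F q ((M.1 * gm A) *ᵥ u) ((M.1 * gm A) *ᵥ v) = _
    rw [← mulVec_mulVec, ← mulVec_mulVec, (preserves_iff hF M.1).2 M.2.1, herm_gm]⟩
  refine ⟨g, ?_⟩
  apply Subtype.ext
  rw [su_smul]
  refine Submodule.eq_of_le_of_finrank_eq ?_ ?_
  · rintro _ ⟨x, hx, rfl⟩
    change (M.1 * gm A) *ᵥ x ∈ W.1
    rw [← mulVec_mulVec]
    apply M.2.2
    have h1 : (guL n F q A) x ∈ mv (guL n F q) A U.1 := mem_mv_of_mem hx
    rw [← gu_smul hF, hA] at h1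
    exact h1
  · rw [finrank_mv, U.2.2, W.2.2]

theorem nonempty_uX (hF : Fintype.card F = q ^ 2) {k : ℕ} (h : 2 * k ≤ n) : Nonempty (uX hF n k) := by
  obtain ⟨W, hW, hW'⟩ := H567.Gap.exists_isotropic hF (n := n) (k := k) (m := n - 2 * k) (by omega)
  exact ⟨⟨W, (TI_iff hF).2 hW', hW⟩⟩

theorem card_stabilizer (hF : Fintype.card F = q ^ 2) {k m : ℕ} (hn : n = k + (m + k)) (U : uX hF n k) :
    Nat.card (MulAction.stabilizer (GU n F q) U) =
      q ^ (2 * m * k + k * k) * (∏ i : Fin k, ((q ^ 2) ^ k - (q ^ 2) ^ (i : ℕ))) * Nat.card (GU m F q) := by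
  rw [← card_stabSet hF hn U.2.2 ((TI_iff hF).1 U.2.1), ← card_stab_GU hF U.1]
  congr 1
  have h : MulAction.stabilizer (GU n F q) U =
      (stabilizing (glToMat (Fin n) F) (U.1 : Set (Fin n → F))).subgroupOf (GU n F q) := by
    ext g
    rw [MulAction.mem_stabilizer_iff, Subgroup.mem_subgroupOf]
    constructor
    · intro hg v
      have h1 : mv (guL n F q) g U.1 = U.1 := by rw [← gu_smul hF, hg]
      have h2 : gm g *ᵥ v ∈ U.1 ↔ v ∈ U.1 := by
        conv_lhs => rw [← h1]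
        rw [mem_mv]
        change gm g⁻¹ *ᵥ (gm g *ᵥ v) ∈ U.1 ↔ _
        rw [gm_inv_mulVec]
      exact h2.symm
    · intro hg
      apply Subtype.ext
      rw [gu_smul]
      refine Submodule.eq_of_le_of_finrank_eq ?_ (finrank_mv _ _ _)
      rintro _ ⟨x, hx, rfl⟩
      exact (hg x).1 hx
  rw [h]

/-- **The number of totally isotropic `k`-subspaces** -/
theorem card_uX_mul (hF : Fintype.card F = q ^ 2) {k m : ℕ} (hn : n = k + (m + k)) :
    (Nat.card (uX hF n k) : ℤ) * ∏ j ∈ Finset.range k, ((q : ℤ) ^ (2 * (j + 1)) - 1) =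
      ∏ i ∈ Finset.range (2 * k), ((q : ℤ) ^ (m + i + 1) - (-1) ^ (m + i + 1)) := by
  have hq := two_le hF
  obtain ⟨U⟩ := nonempty_uX (n := n) hF (k := k) (by omega)
  have : MulAction.IsPretransitive (GU n F q) (uX hF n k) := ⟨gu_trans hF⟩
  have : Finite (GU n F q) := Cfsg.Agent.LieClassical.GUOrder.finite_GU (F := F) (q := q) n
  have h1 : Nat.card (uX hF n k) * Nat.card (MulAction.stabilizer (GU n F q) U) = Nat.card (GU n F q) := by
    rw [← MulAction.index_stabilizer_of_transitive (GU n F q) U, mul_comm, Subgroup.card_mul_index]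
  rw [card_stabilizer hF hn U, S0277.result hF n, S0277.result hF m] at h1
  -- the product formula for `GU`
  have hG : ∀ l : ℕ, (((∏ i ∈ Finset.range l, (if Even i then q ^ (i + 1) + 1 else q ^ (i + 1) - 1) : ℕ)) : ℤ) =
      ∏ i ∈ Finset.range l, ((q : ℤ) ^ (i + 1) - (-1) ^ (i + 1)) := by
    intro l
    rw [Nat.cast_prod]
    refine Finset.prod_congr rfl fun i _ => ?_
    by_cases hi : Even i
    · rw [if_pos hi, (hi.add_one).neg_one_pow]
      push_cast
      ring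
    · rw [if_neg hi, (Nat.not_even_iff_odd.1 hi).add_one.neg_one_pow]
      rw [Nat.cast_sub (Nat.one_le_pow _ _ (by omega))]
      push_cast
      ring
  have hP : (((∏ i : Fin k, ((q ^ 2) ^ k - (q ^ 2) ^ (i : ℕ)) : ℕ)) : ℤ) =
      (q : ℤ) ^ (k * (k - 1)) * ∏ j ∈ Finset.range k, ((q : ℤ) ^ (2 * (j + 1)) - 1) := by
    rw [Finset.prod_range (fun i => (q ^ 2) ^ k - (q ^ 2) ^ i) |>.symm, Nat.cast_prod]
    have e1 : ∀ i ∈ Finset.range k, (((q ^ 2) ^ k - (q ^ 2) ^ i : ℕ) : ℤ) =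
        (q : ℤ) ^ (2 * i) * ((q : ℤ) ^ (2 * (k - 1 - i + 1)) - 1) := by
      intro i hi
      have hi' := Finset.mem_range.1 hi
      rw [Nat.cast_sub (Nat.pow_le_pow_right (by positivity) hi'.le)]
      push_cast
      have e2 : 2 * (k - 1 - i + 1) = 2 * (k - i) := by omega
      rw [e2, mul_sub, mul_one, ← pow_add, ← pow_mul, ← pow_mul]
      congr 2
      omega
    rw [Finset.prod_congr rfl e1, Finset.prod_mul_distrib, Finset.prod_pow_eq_pow_sum]
    congr 1
    · congr 1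
      rw [← Finset.mul_sum, mul_comm 2, Finset.sum_range_id_mul_two]
    · exact Finset.prod_range_reflect (fun j => (q : ℤ) ^ (2 * (j + 1)) - 1) k
  have h2 : (Nat.card (uX hF n k) : ℤ) * ((q : ℤ) ^ (2 * m * k + k * k) *
      ((q : ℤ) ^ (k * (k - 1)) * ∏ j ∈ Finset.range k, ((q : ℤ) ^ (2 * (j + 1)) - 1)) *
      ((q : ℤ) ^ (m * (m - 1) / 2) * ∏ i ∈ Finset.range m, ((q : ℤ) ^ (i + 1) - (-1) ^ (i + 1)))) =
      (q : ℤ) ^ (n * (n - 1) / 2) * ∏ i ∈ Finset.range n, ((q : ℤ) ^ (i + 1) - (-1) ^ (i + 1)) := by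
    have h3 := congrArg (fun t : ℕ => (t : ℤ)) h1
    simp only [Nat.cast_mul, Nat.cast_pow, hG, hP] at h3
    exact h3
  have hexp : n * (n - 1) / 2 = 2 * m * k + k * k + k * (k - 1) + m * (m - 1) / 2 := by
    subst hn
    have e3 : ∀ t : ℕ, 2 * (t * (t - 1) / 2) = t * (t - 1) := fun t =>
      Nat.mul_div_cancel' (by
        rcases t with _ | t
        · simp
        · rw [Nat.add_sub_cancel, mul_comm]; exact (Nat.even_mul_succ_self t).two_dvd)
    have e4 := e3 (k + (m + k))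
    have e5 := e3 m
    have e6 : (k + (m + k)) * (k + (m + k) - 1) = 2 * (2 * m * k + k * k + k * (k - 1)) + m * (m - 1) := by
      rcases k with _ | k
      · simp
      · rcases m with _ | m
        · rw [show k + 1 + (0 + (k + 1)) - 1 = 2 * k + 1 by omega, Nat.add_sub_cancel]; ring
        · rw [show k + 1 + (m + 1 + (k + 1)) - 1 = 2 * k + m + 2 by omega, Nat.add_sub_cancel, Nat.add_sub_cancel]
          ring
    omega
  have hsplit : ∏ i ∈ Finset.range n, ((q : ℤ) ^ (i + 1) - (-1) ^ (i + 1)) =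
      (∏ i ∈ Finset.range m, ((q : ℤ) ^ (i + 1) - (-1) ^ (i + 1))) *
        ∏ i ∈ Finset.range (2 * k), ((q : ℤ) ^ (m + i + 1) - (-1) ^ (m + i + 1)) := by
    rw [show n = m + 2 * k by omega, Finset.prod_range_add]
  rw [hexp, hsplit] at h2
  have hne : ∀ i : ℕ, ((q : ℤ) ^ (i + 1) - (-1) ^ (i + 1)) ≠ 0 := by
    intro i h
    have h3 : (q : ℤ) ^ (i + 1) = (-1) ^ (i + 1) := sub_eq_zero.1 h
    have h4 : (2 : ℤ) ≤ (q : ℤ) ^ (i + 1) := by
      have h5 : (q : ℤ) ≤ (q : ℤ) ^ (i + 1) := le_self_pow₀ (by exact_mod_cast (by omega : 1 ≤ q)) (by omega)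
      have h6 : (2 : ℤ) ≤ (q : ℤ) := by exact_mod_cast hq
      exact h6.trans h5
    rw [h3] at h4
    rcases neg_one_pow_eq_or ℤ (i + 1) with h5 | h5 <;> rw [h5] at h4 <;> omega
  have hq0 : (q : ℤ) ≠ 0 := by exact_mod_cast (by omega : q ≠ 0)
  have hne2 : (q : ℤ) ^ (2 * m * k + k * k + k * (k - 1) + m * (m - 1) / 2) *
      ∏ i ∈ Finset.range m, ((q : ℤ) ^ (i + 1) - (-1) ^ (i + 1)) ≠ 0 :=
    mul_ne_zero (pow_ne_zero _ hq0) (Finset.prod_ne_zero_iff.2 fun i _ => hne i)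
  apply mul_right_cancel₀ hne2
  rw [pow_add, pow_add] at h2 ⊢
  linear_combination h2

/-- the equation with `z = -q` -/
theorem card_uX_neg (hF : Fintype.card F = q ^ 2) {k m : ℕ} (hn : n = k + (m + k)) :
    (Nat.card (uX hF n k) : ℤ) * ∏ j ∈ Finset.range k, ((-(q : ℤ)) ^ (2 * (j + 1)) - 1) =
      (-1) ^ k * ∏ i ∈ Finset.range (2 * k), ((-(q : ℤ)) ^ (m + i + 1) - 1) :=
  Num.eq_neg (card_uX_mul hF hn)

theorem two_le_abs (hF : Fintype.card F = q ^ 2) : 2 ≤ |(-(q : ℤ))| := by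
  rw [abs_neg, Nat.abs_cast]
  exact_mod_cast two_le hF

section
variable {p : ℕ} [hp : Fact p.Prime]

theorem cast_neg (q p : ℕ) : ((-(q : ℤ) : ℤ) : ZMod p) = -(q : ZMod p) := by push_cast; ring

/-- the order of `-q` odd : `p` divides the number of maximal isotropic subspaces -/
theorem dvd_card_odd (hF : Fintype.card F = q ^ 2) (hn : 3 ≤ n) (ho : Odd (orderOf (-(q : ZMod p))))
    (hle : orderOf (-(q : ZMod p)) ≤ n) : p ∣ Nat.card (uX hF n (n / 2)) := by
  rw [← cast_neg] at ho hle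
  have h := card_uX_neg hF (n := n) (k := n / 2) (m := n - 2 * (n / 2)) (by omega)
  exact Int.natCast_dvd_natCast.1 (Num.dvd_odd (n := n) (by omega) (by omega) hn (two_le_abs hF) h ho hle)

/-- the order of `-q` even, the kernel part of Witt index less than `d - 1` -/
theorem dvd_card_even (hF : Fintype.card F = q ^ 2) {d a n0 : ℕ} (he : orderOf (-(q : ZMod p)) = 2 * d)
    (hn : n = n0 + a * (2 * d)) (ha : 1 ≤ a) (hd : n0 / 2 + 1 < d) :
    p ∣ Nat.card (uX hF n (n0 / 2 + 1)) := by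
  rw [← cast_neg] at he
  have h1 : 2 * d ≤ a * (2 * d) := Nat.le_mul_of_pos_left _ ha
  have h := card_uX_neg hF (n := n) (k := n0 / 2 + 1) (m := n - 2 * (n0 / 2 + 1)) (by omega)
  exact Int.natCast_dvd_natCast.1 (Num.dvd_even (n := n) (a := a) (by omega) h he hd (by omega) (by omega))

/-- the order of `-q` even, `k = d` -/
theorem card_d (hF : Fintype.card F = q ^ 2) {d a n0 : ℕ} (he : orderOf (-(q : ZMod p)) = 2 * d)
    (hn : n = n0 + a * (2 * d)) (ha : 1 ≤ a) (hd : n0 / 2 + 1 = d) :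
    (Nat.card (uX hF n d) : ZMod p) = 2 * a := by
  rw [← cast_neg] at he
  obtain ⟨a, rfl⟩ := Nat.exists_eq_add_of_le' ha
  obtain ⟨d, rfl⟩ : ∃ d', d = d' + 1 := ⟨d - 1, by omega⟩
  have h1 : n = n0 + a * (2 * (d + 1)) + 2 * (d + 1) := by rw [hn]; ring
  have h := card_uX_neg hF (n := n) (k := d + 1) (m := n0 + a * (2 * (d + 1))) (by omega)
  have h2 := Num.card_one (p := p) (n0 := n0) (a := a) (two_le_abs hF) he (by omega) (by omega) rfl h
  push_cast at h2 ⊢
  exact h2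

/-- the order of `-q` even, `k = 2d` -/
theorem card_2d (hF : Fintype.card F = q ^ 2) {d a n0 : ℕ} (he : orderOf (-(q : ZMod p)) = 2 * d)
    (hn : n = n0 + a * (2 * d)) (ha : 2 ≤ a) (hd : n0 / 2 + 1 = d) :
    (Nat.card (uX hF n (2 * d)) : ZMod p) = 2 * a * (a - 1) := by
  rw [← cast_neg] at he
  obtain ⟨a, rfl⟩ := Nat.exists_eq_add_of_le' ha
  obtain ⟨d, rfl⟩ : ∃ d', d = d' + 1 := ⟨d - 1, by omega⟩
  have h1 : n = n0 + a * (2 * (d + 1)) + 2 * (2 * (d + 1)) := by rw [hn]; ring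
  have h := card_uX_neg hF (n := n) (k := 2 * (d + 1)) (m := n0 + a * (2 * (d + 1))) (by omega)
  have h2 := Num.card_two (p := p) (n0 := n0) (a := a) (two_le_abs hF) he (by omega) (by omega) rfl h
  push_cast at h2 ⊢
  rw [h2]
  ring

end

end Cfsg.Agent.H666.BR
end

private theorem dce_28bb62a8f644 : _root_.True := by
  try have : _root_.True := by simp only [_root_.Cfsg.Agent.H646.BR.U.uX.congr_simp]
  exact _root_.True.intro
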